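import Cfsg.Agent.H140.TC.Fam
import Cfsg.Agent.H126.PwO.Mats
import Cfsg.Agent.H494.TC.Base

/-!
# `Ω₈⁻(2)` : every nontrivial element is a product of two conjugates of an element of order seven (helper126)
-/

set_option autoImplicit false
set_option linter.unusedSectionVars false
set_option linter.dupNamespace false

namespace Cfsg.Agent.H126.TC

open Module QuadraticMap Matrix Polynomial Cfsg.Agent.LieClassical.OrthCore Cfsg.Agent.LieClassical.OrthTrans
  Cfsg.Agent.LieClassical.OrthFinite Cfsg.Agent.LieClassical.OrthForms Cfsg.Agent.H140.OreO Cfsg.Agent.H126.PwO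
  Cfsg.Agent.H962.PP Cfsg.Agent.H141.SpinFacts Cfsg.Agent.H140.TC
open Cfsg.Agent.H434.Corn (MaxTS)

variable {F V : Type*} [Field F] [AddCommGroup V] [Module F V] {Q : QuadraticForm F V}

/-! ### the two irreducible cubics -/

theorem two_eq [Finite F] (hF : Nat.card F = 2) : (1 : F) + 1 = 0 := by
  by_contra h
  have h1 := det_two hF h
  have h2 : (1 : F) = 0 := by linear_combination h1
  exact one_ne_zero h2

theorem cubic_ext [Finite F] (hF : Nat.card F = 2) {p p' : F[X]} (hp : Irreducible p) (hm : p.Monic)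
    (hd : p.natDegree = 3) (hp' : Irreducible p') (hm' : p'.Monic) (hd' : p'.natDegree = 3)
    (h : p.coeff 2 = p'.coeff 2) : p = p' := by
  have h2 := two_eq hF
  have key : ∀ r : F[X], Irreducible r → r.Monic → r.natDegree = 3 → r.coeff 0 = 1 ∧ r.coeff 1 = 1 + r.coeff 2 ∧
      r.coeff 3 = 1 := by
    intro r hr hrm hrd
    have h0 : r.coeff 0 = 1 := det_two hF (coeff_zero_ne hr (by omega))
    have h3 : r.coeff 3 = 1 := by rw [← hrd]; exact hrm
    have h4 : r.eval 1 = 1 := det_two hF (eval_ne_zero hr (by omega) 1)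
    rw [eval_eq_sum_range, hrd] at h4
    simp only [Finset.sum_range_succ, Finset.sum_range_zero, one_pow, mul_one, zero_add] at h4
    rw [h0, h3] at h4
    refine ⟨h0, ?_, h3⟩
    linear_combination h4 - (r.coeff 2 + 1) * h2
  obtain ⟨a0, a1, a3⟩ := key p hp hm hd
  obtain ⟨b0, b1, b3⟩ := key p' hp' hm' hd'
  ext n
  rcases Nat.lt_or_ge 3 n with hn | hn
  · rw [coeff_eq_zero_of_natDegree_lt (by omega), coeff_eq_zero_of_natDegree_lt (by omega)]
  · interval_cases n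
    · rw [a0, b0]
    · rw [a1, b1, h]
    · exact h
    · rw [a3, b3]

theorem irr_ti {X : GL (Fin 3) F} (h : Irreducible (X : Matrix (Fin 3) (Fin 3) F).charpoly) :
    Irreducible (ti X : Matrix (Fin 3) (Fin 3) F).charpoly := by
  rw [ti_coe, charpoly_transpose]
  exact Cfsg.Agent.H126.M3.irr_inv h (by rw [← Units.val_mul, mul_inv_cancel, Units.val_one])

theorem deg3 (X : Matrix (Fin 3) (Fin 3) F) : X.charpoly.natDegree = 3 := deg_charpoly X

theorem irrM7 [Finite F] (hF : Nat.card F = 2) {X : GL (Fin 3) F}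
    (h : Irreducible (X : Matrix (Fin 3) (Fin 3) F).charpoly) : IrrM 7 (X : Matrix (Fin 3) (Fin 3) F) := by
  refine irrM_of h (det_two hF ?_) (by rw [hF]; norm_num)
  have h1 : ((X * X⁻¹ : GL (Fin 3) F) : Matrix (Fin 3) (Fin 3) F).det = 1 := by
    rw [mul_inv_cancel, Units.val_one, det_one]
  rw [Units.val_mul, det_mul] at h1
  exact left_ne_zero_of_mul_eq_one h1

/-- the two classes -/
theorem charpoly_cases [Finite F] (hF : Nat.card F = 2) {X X₀ : GL (Fin 3) F}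
    (h : Irreducible (X : Matrix (Fin 3) (Fin 3) F).charpoly)
    (h₀ : Irreducible (X₀ : Matrix (Fin 3) (Fin 3) F).charpoly) :
    (X : Matrix (Fin 3) (Fin 3) F).charpoly = (X₀ : Matrix (Fin 3) (Fin 3) F).charpoly ∨
      (X : Matrix (Fin 3) (Fin 3) F).charpoly = (ti X₀ : Matrix (Fin 3) (Fin 3) F).charpoly := by
  have h₁ := irr_ti h₀
  have hne : (X₀ : Matrix (Fin 3) (Fin 3) F).charpoly.coeff 2 ≠ (ti X₀ : Matrix (Fin 3) (Fin 3) F).charpoly.coeff 2 := by
    intro he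
    have h2 := cubic_ext hF h₀ (charpoly_monic _) (deg3 _) h₁ (charpoly_monic _) (deg3 _) he
    have h3 := (irrM7 hF h₀).cop (by decide) (by norm_num)
    have h4 := aeval_ti_reverse X₀
    have h5 := aeval_self_charpoly (ti X₀ : Matrix (Fin 3) (Fin 3) F)
    rw [← h2] at h5
    obtain ⟨a, b, hab⟩ := h3
    have h6 := congrArg (aeval (ti X₀ : Matrix (Fin 3) (Fin 3) F)) hab
    rw [map_add, map_mul, map_mul, h4, h5, mul_zero, mul_zero, add_zero, map_one] at h6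
    exact zero_ne_one h6
  have h2 := two_eq hF
  have : (X : Matrix (Fin 3) (Fin 3) F).charpoly.coeff 2 = (X₀ : Matrix (Fin 3) (Fin 3) F).charpoly.coeff 2 ∨
      (X : Matrix (Fin 3) (Fin 3) F).charpoly.coeff 2 = (ti X₀ : Matrix (Fin 3) (Fin 3) F).charpoly.coeff 2 := by
    have key : ∀ x : F, x = 0 ∨ x = 1 := fun x => by
      by_cases hx : x = 0
      · exact Or.inl hx
      · exact Or.inr (det_two hF hx)
    rcases key ((X : Matrix (Fin 3) (Fin 3) F).charpoly.coeff 2) with a | a <;>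
    rcases key ((X₀ : Matrix (Fin 3) (Fin 3) F).charpoly.coeff 2) with b | b <;>
    rcases key ((ti X₀ : Matrix (Fin 3) (Fin 3) F).charpoly.coeff 2) with c | c <;>
    simp_all
  rcases this with h3 | h3
  · exact Or.inl (cubic_ext hF h (charpoly_monic _) (deg3 _) h₀ (charpoly_monic _) (deg3 _) h3)
  · exact Or.inr (cubic_ext hF h (charpoly_monic _) (deg3 _) h₁ (charpoly_monic _) (deg3 _) h3)

/-! ### conjugacy of Levi elements -/

theorem ti_ti {n : ℕ} (X : GL (Fin n) F) : ti (ti X) = X := by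
  apply Units.ext
  rw [ti_coe]
  have : ((ti X)⁻¹ : GL (Fin n) F) = ti X⁻¹ := (ti_inv X).symm
  rw [this, ti_coe, inv_inv, transpose_transpose]

theorem swp_lev {n : ℕ} (X : GL (Fin n) F) (h : V ≃ₗ[F] V) :
    Cfsg.Agent.H141.SpinFacts.swp F V n * lev X h * (Cfsg.Agent.H141.SpinFacts.swp F V n)⁻¹ = lev (ti X) h := by
  apply LinearEquiv.ext
  intro x
  have e : (Cfsg.Agent.H141.SpinFacts.swp F V n * lev X h * (Cfsg.Agent.H141.SpinFacts.swp F V n)⁻¹) x =
      ((lev X h (x.2.2, x.2.1, x.1)).2.2, (lev X h (x.2.2, x.2.1, x.1)).2.1, (lev X h (x.2.2, x.2.1, x.1)).1) :=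
    rfl
  rw [e, lev_apply, lev_apply, ti_ti]

theorem lev_conj {n : ℕ} (Z W : GL (Fin n) F) (z : V ≃ₗ[F] V) :
    lev (Z * W * Z⁻¹) z = lev Z 1 * lev W z * (lev Z 1)⁻¹ := by
  rw [← lev_inv, ← lev_mul, ← lev_mul, one_mul, inv_one, mul_one]

theorem conj_gl [Finite F] {X X₀ : GL (Fin 3) F} (h : Irreducible (X : Matrix (Fin 3) (Fin 3) F).charpoly)
    (he : (X : Matrix (Fin 3) (Fin 3) F).charpoly = (X₀ : Matrix (Fin 3) (Fin 3) F).charpoly) :
    ∃ P : GL (Fin 3) F, X = P * X₀ * P⁻¹ := by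
  obtain ⟨P, hP, hPe⟩ := conj_of_cyc (cyc_of_irr (by norm_num) (by rw [← he]; exact h)) (cyc_of_irr (by norm_num) h)
    he.symm
  obtain ⟨P', rfl⟩ : ∃ P' : GL (Fin 3) F, (P' : Matrix _ _ F) = P :=
    ⟨Matrix.GeneralLinearGroup.mkOfDetNeZero P hP.ne_zero, rfl⟩
  refine ⟨P', Units.ext ?_⟩
  rw [hPe, Units.val_mul, Units.val_mul, Matrix.coe_units_inv]

theorem exists_lev_conj [Finite F] (hF : Nat.card F = 2) {X X₀ : GL (Fin 3) F}
    (h : Irreducible (X : Matrix (Fin 3) (Fin 3) F).charpoly)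
    (h₀ : Irreducible (X₀ : Matrix (Fin 3) (Fin 3) F).charpoly) :
    ∃ s ∈ O (MQ 3 Q), lev X (1 : V ≃ₗ[F] V) = s * lev X₀ 1 * s⁻¹ := by
  rcases charpoly_cases hF h h₀ with h1 | h1
  · obtain ⟨P, rfl⟩ := conj_gl h h1
    exact ⟨lev P 1, lev_mem (O _).one_mem, lev_conj P X₀ 1⟩
  · obtain ⟨P, rfl⟩ := conj_gl h h1
    refine ⟨lev P 1 * Cfsg.Agent.H141.SpinFacts.swp F V 3,
      (O _).mul_mem (lev_mem (O _).one_mem) Cfsg.Agent.H141.SpinFacts.swp_mem, ?_⟩
    rw [lev_conj, ← swp_lev]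
    group

/-- a fixed nonsingular vector, the field with two elements -/
theorem conj_O' [Finite F] [FiniteDimensional F V] (hF : Nat.card F = 2) (hG : Good Q) {x₀ : V ≃ₗ[F] V}
    (hx₀ : x₀ ∈ O Q) {b : V} (hb : x₀ b = b) (hqb : Q b ≠ 0) {T : V ≃ₗ[F] V} (hT : T ∈ O Q) :
    ∃ u ∈ Om Q, T * x₀ * T⁻¹ = u * x₀ * u⁻¹ := by
  let C : Subgroup (O Q) := Subgroup.centralizer {⟨x₀, hx₀⟩}
  have hC : ∀ h : O Q, h ∈ C ↔ x₀ * (h : V ≃ₗ[F] V) = h * x₀ := by
    intro h
    rw [Subgroup.mem_centralizer_singleton_iff]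
    constructor
    · intro h1
      exact (congrArg Subtype.val h1).symm
    · intro h1
      exact Subtype.ext h1.symm
  have key := pj_mem hG (C.map (pj Q)) (fun v hv => by
    refine ⟨rO Q _ hqb, ?_, (pj_rO_eq hG hv hqb ⟨1, by
      rw [one_mul, one_mul, det_two hF hqb, det_two hF hv]⟩).symm⟩
    rw [SetLike.mem_coe, hC]
    have h2 : Q (x₀ b) ≠ 0 := by rw [hb]; exact hqb
    have h3 := refl_conj hx₀ hqb h2
    have h4 : refl Q (x₀ b) h2 = refl Q b hqb := by congr 1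
    rw [h4] at h3
    exact mul_inv_eq_iff_eq_mul.1 h3) ⟨T, hT⟩
  obtain ⟨h, hhC, hh⟩ := key
  have h1 : x₀ * (h : V ≃ₗ[F] V) = h * x₀ := (hC h).1 hhC
  have h2 : pj Q (⟨T, hT⟩ * h⁻¹) = 1 := by
    rw [map_mul, map_inv, hh, mul_inv_cancel]
  rw [pj_eq_one_iff] at h2
  refine ⟨T * (h : V ≃ₗ[F] V)⁻¹, h2, ?_⟩
  have h3 : (h : V ≃ₗ[F] V)⁻¹ * x₀ * h = x₀ := by rw [mul_assoc, h1, ← mul_assoc, inv_mul_cancel, one_mul]
  conv_lhs => rw [← h3]
  group

/-- **every nonscalar element is a product of two conjugates** -/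
theorem twoOf_seven [Finite F] [FiniteDimensional F V] (hF : Nat.card F = 2) (hQ : Nondeg Q)
    (hW : ∀ W, MaxTS Q W → finrank F W = 3) {e e' : Fin 3 → V} (hf : Frame Q e e') {X₀ : GL (Fin 3) F}
    (h₀ : Irreducible (X₀ : Matrix (Fin 3) (Fin 3) F).charpoly) {b : perp Q e e'} (hb : res Q e e' b ≠ 0) :
    TwoOf Q ((autE hf.toModel).symm (lev X₀ 1)) ((autE hf.toModel).symm (lev X₀ 1)) := by
  intro g hg hns
  have hfr := hf.finrank_perp
  have hG : Good Q := good_of_finite hQ (by omega)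
  have he : ∀ v, MQ 3 (res Q e e') (hf.toModel v) = Q v := hf.MQ_toModel
  obtain ⟨w, w', hfw, hS, hAdet, hA⟩ := nsCorner hQ hg hns le_rfl hW
  obtain ⟨T, hT, hTl, hTr⟩ := frame_trans hQ hf hfw
  obtain ⟨g', hg'⟩ : ∃ g', g' = T⁻¹ * g * T := ⟨_, rfl⟩
  have hg'a : ∀ v, T (g' v) = g (T v) := by
    intro v
    rw [hg']
    exact T.apply_symm_apply _
  have hgO : g ∈ O Q := Om_le hg
  have hg'O : g' ∈ O Q := by
    rw [hg']
    exact (O Q).mul_mem ((O Q).mul_mem ((O Q).inv_mem hT) hgO) hT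
  -- the frame `e, e'` for `g'`
  have hcor : corner Q g' e e' = corner Q g w w' := by
    ext i j
    rw [corner_apply, corner_apply, ← polar_map hT, hg'a, hTl, hTr]
  have hS' : SchurOne Q g' e e' := by
    intro v hv
    have hTv : T v ∈ perp Q w w' := by
      intro i
      rw [← hTl, ← hTr, polar_map hT, polar_map hT]
      exact hv i
    obtain ⟨c, d, hcd⟩ := hS (T v) hTv
    refine ⟨c, d, ?_⟩
    apply T.injective
    have e1 : T (v + ∑ i, c i • e i) = T v + ∑ i, c i • w i := by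
      rw [map_add, map_sum]
      simp only [map_smul, hTl]
    have e2 : T (v + ∑ i, d i • e' i) = T v + ∑ i, d i • w' i := by
      rw [map_add, map_sum]
      simp only [map_smul, hTr]
    rw [hg'a, e1, e2, hcd]
  obtain ⟨A, hAe⟩ := exists_gl (M := corner Q g w w') (by rw [hAdet]; exact one_ne_zero)
  obtain ⟨u₁, hu₁, g₁, hg₁, u₂, hu₂, edec⟩ := decomp ((autE_mem_O he).2 hg'O) A (fun a => by
    rw [corner_model, hcor, hAe])
  have h1 : g₁ = 1 := by
    apply LinearEquiv.ext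
    intro v
    obtain ⟨c, d, hcd⟩ := schur_model hf hS' v
    exact schur_one_of hu₁ hu₂ edec hcd
  obtain ⟨X, Y, s, t, hXY, hX, hY, -, -⟩ := irr2_small (Or.inl ⟨rfl, Or.inl hF⟩) hAdet hA
  obtain ⟨X, rfl⟩ := Cfsg.Agent.H126.PwO.exists_gl hX.det
  obtain ⟨Y, rfl⟩ := Cfsg.Agent.H126.PwO.exists_gl hY.det
  have hAXY : A = X * Y := by
    apply Units.ext
    rw [hAe, hXY, Units.val_mul]
  obtain ⟨v₁, hv₁, v₂, hv₂, e2⟩ := stepPr hu₁ hu₂ hAXY (g₁ := g₁) (x := 1) (y := 1) (by rw [h1, mul_one])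
    (O _).one_mem (O _).one_mem (hX.copP_one (by decide) (by norm_num) X rfl)
    (hY.copP_one (by decide) (by norm_num) Y rfl)
  rw [← edec] at e2
  obtain ⟨s₁, hs₁, e₁⟩ := exists_lev_conj (Q := res Q e e') hF hX.irr h₀
  obtain ⟨s₂, hs₂, e₂⟩ := exists_lev_conj (Q := res Q e e') hF hY.irr h₀
  rw [e₁, e₂] at e2
  -- back to `V`
  have back : ∀ s ∈ O (MQ 3 (res Q e e')), (autE hf.toModel).symm s ∈ O Q := by
    intro s hs
    rw [← autE_mem_O he, MulEquiv.apply_symm_apply]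
    exact hs
  have backX : (autE hf.toModel).symm (lev X₀ (1 : perp Q e e' ≃ₗ[F] perp Q e e')) ∈ O Q :=
    back _ (lev_mem (O _).one_mem)
  obtain ⟨t₁, ht₁⟩ : ∃ t, t = T * (autE hf.toModel).symm v₁ * (autE hf.toModel).symm s₁ := ⟨_, rfl⟩
  obtain ⟨t₂, ht₂⟩ : ∃ t, t = T * (autE hf.toModel).symm v₂ * (autE hf.toModel).symm s₂ := ⟨_, rfl⟩
  have ht₁O : t₁ ∈ O Q := by
    rw [ht₁]
    exact (O Q).mul_mem ((O Q).mul_mem hT (back _ (Om_le hv₁))) (back _ hs₁)
  have ht₂O : t₂ ∈ O Q := by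
    rw [ht₂]
    exact (O Q).mul_mem ((O Q).mul_mem hT (back _ (Om_le hv₂))) (back _ hs₂)
  have e4 : g = (t₁ * (autE hf.toModel).symm (lev X₀ 1) * t₁⁻¹) *
      (t₂ * (autE hf.toModel).symm (lev X₀ 1) * t₂⁻¹) := by
    have e5 : g' = (autE hf.toModel).symm (v₁ * (s₁ * lev X₀ 1 * s₁⁻¹) * v₁⁻¹ *
        (v₂ * (s₂ * lev X₀ 1 * s₂⁻¹) * v₂⁻¹)) := by
      rw [← e2, MulEquiv.symm_apply_apply]
    have e6 : g = T * g' * T⁻¹ := by rw [hg']; group
    rw [e6, e5, ht₁, ht₂]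
    simp only [map_mul, map_inv]
    group
  -- the fixed vector
  have hfix : (autE hf.toModel).symm (lev X₀ (1 : perp Q e e' ≃ₗ[F] perp Q e e')) (b : V) = (b : V) := by
    have h2 : hf.toModel.symm (0, b, 0) = (b : V) := by
      rw [hf.toModel_symm_apply]
      simp
    have h3 : hf.toModel (b : V) = (0, b, 0) := by rw [← h2, LinearEquiv.apply_symm_apply]
    show hf.toModel.symm (lev X₀ 1 (hf.toModel (b : V))) = _
    rw [h3, lev_apply, mulVec_zero, mulVec_zero]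
    exact h2
  obtain ⟨r₁, hr₁, f₁⟩ := conj_O' hF hG backX hfix hb ht₁O
  obtain ⟨r₂, hr₂, f₂⟩ := conj_O' hF hG backX hfix hb ht₂O
  exact ⟨r₁, hr₁, r₂, hr₂, by rw [← f₁, ← f₂]; exact e4⟩

theorem two_eight_minus [Finite F] [FiniteDimensional F V] (hF : Nat.card F = 2) (hQ : Nondeg Q)
    (hd : finrank F V = 8) (hW : ∀ W, MaxTS Q W → finrank F W = 3) : Two Q := by
  refine two_of_frames hQ le_rfl hW fun e e' hf => ?_
  obtain ⟨p, t, X₀, hp, ht, hX₀⟩ := exists_one_gl (m := 3) F (by decide) le_rfl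
  have h₀ : Irreducible (X₀ : Matrix (Fin 3) (Fin 3) F).charpoly := by rw [hX₀]; exact hp.irr
  have hfin := hf.finrank_perp
  have hpos : 0 < finrank F (perp Q e e') := by omega
  have : Nontrivial (perp Q e e') := Module.nontrivial_of_finrank_pos hpos
  obtain ⟨b, hb⟩ := exists_ne (0 : perp Q e e')
  have hqb : res Q e e' b ≠ 0 := fun h => hb (anis_perp hW hf b h)
  have hOm : lev X₀ (1 : perp Q e e' ≃ₗ[F] perp Q e e') ∈ Om (MQ 3 (res Q e e')) :=
    lev_det_one_mem (good_model hQ le_rfl hf) (irrM7 hF h₀).det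
  exact two_of_twoOf (k := 1) hf (x := 1) (y := 1) hOm hOm (twoOf_seven hF hQ hW hf h₀ hqb)

/-- **`Ω₈⁻(2)`**: two classes (both of elements of order seven) -/
theorem tc_minus_eight {F : Type*} [Field F] [Fintype F] (hF : Fintype.card F = 2) (a b : F)
    (hab : ∀ z₁ z₂ : F, z₁ ^ 2 + a * z₁ * z₂ + b * z₂ ^ 2 = 0 → z₁ = 0 ∧ z₂ = 0) :
    TC (Cfsg.POmega F (Cfsg.quadFormMinus 3 F a b)) := by
  have h4 : Two (minusForm 3 F a b) := two_eight_minus (by rw [Nat.card_eq_fintype_card, hF])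
    (nondeg_minusForm 3 F a b hab) (by rw [Module.finrank_fintype_fun_eq_card]; simp)
    (H295.War.witt_minus 3 a b hab)
  have h5 := tc_of_two (minusForm 3 F a b) h4
  rw [coe_minusForm] at h5
  exact h5

/-- **`Ω⁻`**, all cases -/
theorem tc_minus_all {F : Type*} [Field F] [Fintype F] {m : ℕ} (hm : 4 ≤ m) (a b : F)
    (hab : ∀ z₁ z₂ : F, z₁ ^ 2 + a * z₁ * z₂ + b * z₂ ^ 2 = 0 → z₁ = 0 ∧ z₂ = 0) :
    TC (Cfsg.POmega F (Cfsg.quadFormMinus (m - 1) F a b)) := by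
  by_cases h : 5 ≤ m ∨ 3 ≤ Fintype.card F
  · exact tc_minus hm a b hab h
  · have hm4 : m = 4 := by omega
    have h2 : 2 ≤ Fintype.card F := Fintype.one_lt_card
    subst hm4
    exact tc_minus_eight (by omega) a b hab

end Cfsg.Agent.H126.TC
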