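import Cfsg.Agent.H140.TC.Fam
import Cfsg.Agent.H126.PwO.Plus
import Cfsg.Agent.H494.TC.Base
import Cfsg.Agent.H210.TC.Row

/-!
# S2464, S2452: `POmega⁺_2m(q)`, `m` even (helper126)

`pp_plus` : one class of elements of prime order `≥ 5` in `GL_(m-1)(q)`; all `q`, `m ≥ 4` even.
-/

set_option autoImplicit false
set_option linter.unusedSectionVars false

namespace Cfsg.Agent.H126.TC

open Module QuadraticMap Matrix Polynomial Cfsg.Agent.LieClassical.OrthCore Cfsg.Agent.LieClassical.OrthTrans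
  Cfsg.Agent.LieClassical.OrthFinite Cfsg.Agent.LieClassical.OrthForms Cfsg.Agent.H140.OreO Cfsg.Agent.H126.PwO
  Cfsg.Agent.H962.PP Cfsg.Agent.H141.SpinFacts Cfsg.Agent.H160.QSpin Cfsg.Agent.H140.TC
open Cfsg.Agent.H434.Corn (MaxTS)

/-- one class of elements of order `s` -/
def SqP {F V : Type*} [Field F] [AddCommGroup V] [Module F V] (Q : QuadraticForm F V) : Prop :=
  ∃ s : ℕ, s.Prime ∧ s.Coprime 6 ∧ ∃ x₀ ∈ Om Q, x₀ ^ s = 1 ∧ (∀ c : F, ∃ v, x₀ v ≠ c • v) ∧ TwoOf Q x₀ x₀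

theorem pp_of_sqP {ι : Type} [Fintype ι] [DecidableEq ι] {F : Type*} [Field F] (Q : QuadraticForm F (ι → F))
    (h : SqP Q) : H494.TC.PP (Cfsg.POmega F ⇑Q) := by
  obtain ⟨s, hs, h6, x₀, hx₀, hxs, hxn, h⟩ := h
  have hx1 : x₀ ≠ 1 := by
    rintro rfl
    obtain ⟨v, hv⟩ := hxn 1
    exact hv (by rw [one_smul]; rfl)
  have hne : (QuotientGroup.mk ((omegaEquiv Q).symm ⟨x₀, hx₀⟩) : Cfsg.POmega F ⇑Q) ≠ 1 := by
    intro h1
    have h2 := (QuotientGroup.eq_one_iff _).1 h1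
    obtain ⟨u, hu, v, hv, e⟩ := h x₀ hx₀ hxn
    have hc : ∀ w (hw : w ∈ Om Q), w * x₀ * w⁻¹ = x₀ := by
      intro w hw
      have h3 := (Subgroup.mem_center_iff.1 h2) ((omegaEquiv Q).symm ⟨w, hw⟩)
      have h4 := congrArg (fun z => ((omegaEquiv Q z : Om Q) : (ι → F) ≃ₗ[F] (ι → F))) h3
      simp only [map_mul, MulEquiv.apply_symm_apply, Subgroup.coe_mul] at h4
      rw [mul_inv_eq_iff_eq_mul]
      exact h4
    rw [hc u hu, hc v hv] at e
    exact hx1 (by simpa using e.symm)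
  have hpow : (QuotientGroup.mk ((omegaEquiv Q).symm ⟨x₀, hx₀⟩) : Cfsg.POmega F ⇑Q) ^ s = 1 := by
    rw [← QuotientGroup.mk_pow, ← map_pow]
    have : (⟨x₀, hx₀⟩ : Om Q) ^ s = 1 := Subtype.ext hxs
    rw [this, map_one]
    rfl
  have hord : orderOf (QuotientGroup.mk ((omegaEquiv Q).symm ⟨x₀, hx₀⟩) : Cfsg.POmega F ⇑Q) = s :=
    orderOf_eq_prime (hp := ⟨hs⟩) hpow hne
  refine ⟨QuotientGroup.mk ((omegaEquiv Q).symm ⟨x₀, hx₀⟩), by rw [hord]; exact hs, by rw [hord]; exact h6,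
    fun g hg => ?_⟩
  obtain ⟨g, rfl⟩ := QuotientGroup.mk_surjective g
  have hsc : ∀ c : F, ∃ v, (omegaEquiv Q g : (ι → F) ≃ₗ[F] (ι → F)) v ≠ c • v := by
    by_contra hs
    push Not at hs
    obtain ⟨c, hc⟩ := hs
    apply hg
    have hcen : g ∈ Subgroup.center (Cfsg.Omega F ⇑Q) := by
      rw [Subgroup.mem_center_iff]
      intro k
      apply (omegaEquiv Q).injective
      rw [map_mul, map_mul]
      apply Subtype.ext
      apply LinearEquiv.ext
      intro v
      show (omegaEquiv Q k : (ι → F) ≃ₗ[F] (ι → F)) ((omegaEquiv Q g : (ι → F) ≃ₗ[F] (ι → F)) v) =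
        (omegaEquiv Q g : (ι → F) ≃ₗ[F] (ι → F)) ((omegaEquiv Q k : (ι → F) ≃ₗ[F] (ι → F)) v)
      rw [hc, hc, map_smul]
    exact (QuotientGroup.eq_one_iff g).2 hcen
  obtain ⟨u, hu, v, hv, e⟩ := h _ (omegaEquiv Q g).2 hsc
  refine ⟨QuotientGroup.mk ((omegaEquiv Q).symm ⟨u, hu⟩), QuotientGroup.mk ((omegaEquiv Q).symm ⟨v, hv⟩), ?_⟩
  have e2 : g = ((omegaEquiv Q).symm ⟨u, hu⟩ * (omegaEquiv Q).symm ⟨x₀, hx₀⟩ * ((omegaEquiv Q).symm ⟨u, hu⟩)⁻¹) *
      ((omegaEquiv Q).symm ⟨v, hv⟩ * (omegaEquiv Q).symm ⟨x₀, hx₀⟩ * ((omegaEquiv Q).symm ⟨v, hv⟩)⁻¹) := by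
    apply (omegaEquiv Q).injective
    simp only [map_mul, map_inv, MulEquiv.apply_symm_apply]
    exact Subtype.ext e
  conv_lhs => rw [e2]
  rfl

variable {F V : Type*} [Field F] [AddCommGroup V] [Module F V] {Q : QuadraticForm F V}

/-- powers of `lev X 1` -/
theorem lev_pow {n : ℕ} {W : Type*} [AddCommGroup W] [Module F W] (X : GL (Fin n) F) (s : ℕ) :
    (lev X (1 : W ≃ₗ[F] W)) ^ s = lev (X ^ s) 1 := by
  induction s with
  | zero => rw [pow_zero, pow_zero, lev_one]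
  | succ s ih => rw [pow_succ, pow_succ, ih, ← lev_mul, one_mul]

/-- `f` irreducible of odd degree `d ≥ 3`, norm one, with roots of prime order `s ≥ 5` -/
theorem exists_one' (F : Type*) [Field F] [Finite F] {d : ℕ} (hd : 3 ≤ d) (hodd : Odd d) :
    ∃ (f : F[X]) (s : ℕ), s.Prime ∧ 5 ≤ s ∧ RP d f ∧ (-1) ^ d * f.coeff 0 = 1 ∧ f ∣ X ^ s - 1 := by
  have hq : 2 ≤ Nat.card F := Finite.one_lt_card
  obtain ⟨s, hs, hs5, -, hsd, hmin⟩ := exists_prime_odd hq hd (by
    rintro ⟨-, rfl⟩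
    exact (Nat.not_odd_iff_even.2 (by decide)) hodd)
  obtain ⟨f, hf⟩ := exists_pol F (by omega) hsd hmin
  refine ⟨f, s, hs, hs5, ⟨hf.monic, hf.irr, hf.deg, hf.cop (not_dvd_add (by omega) hodd hsd hmin ?_)⟩, ?_, ?_⟩
  · intro h
    have := Nat.le_of_dvd (by norm_num) h
    omega
  · have := (hf.coef 1).2 (by rw [mul_one]; exact dvd_div hq hs (by omega) hsd hmin)
    rwa [pow_one] at this
  · exact (hf.dvd s).2 dvd_rfl

theorem mul_dvd_of {f : F[X]} {d s : ℕ} (hf : RP d f) (hd : 2 ≤ d) (h : f ∣ X ^ s - 1) :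
    (X - C 1) * f ∣ X ^ s - 1 := by
  have h4 : IsCoprime (X - C 1 : F[X]) f := by
    rw [(irreducible_X_sub_C (1 : F)).coprime_iff_not_dvd, dvd_iff_isRoot]
    exact hf.eval_ne hd 1
  refine h4.mul_dvd ?_ h
  rw [dvd_iff_isRoot, IsRoot.def, eval_sub, eval_pow, eval_X, eval_one, one_pow, sub_self]

section Fin

variable [Finite F] [FiniteDimensional F V]

/-- **`Ω⁺`, `m` even** -/
theorem sqP_plus (hQ : Nondeg Q) {m : ℕ} (hm : 4 ≤ m) (hev : Even m) (hd : finrank F V = 2 * m)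
    (hW : ∀ W, MaxTS Q W → finrank F W = m) {e e' : Fin m → V} (hf : Frame Q e e') :
    SqP Q := by
  obtain ⟨k, rfl⟩ : ∃ k, m = k + 2 := ⟨m - 2, by omega⟩
  obtain ⟨f, s, hs, hs5, hfr, hN, hdvd⟩ := exists_one' F (show 3 ≤ k + 1 by omega) (by
    obtain ⟨a, ha⟩ := hev
    exact ⟨a - 1, by omega⟩)
  obtain ⟨B, hBf, hB, hBdet⟩ := exists_mat (by omega) hfr
  rw [hN] at hBdet
  have hfin := hf.finrank_perp
  have hfin0 : finrank F (perp Q e e') = 0 := by omega
  have : Subsingleton (perp Q e e') := Module.finrank_zero_iff.1 hfin0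
  have hu : ∀ (x : perp Q e e' ≃ₗ[F] perp Q e e') (p : F[X]), Un (x : Module.End F (perp Q e e')) p := fun x p =>
    isUnit_of_subsingleton _
  have hdb : (blk (1 : F) B).det = 1 := by rw [blk_det, hBdet, one_mul]
  obtain ⟨X₀, hX₀⟩ : ∃ X₀ : GL (Fin (k + 2)) F, (X₀ : Matrix (Fin (k + 2)) (Fin (k + 2)) F) = blk 1 B :=
    exists_gl (by rw [hdb]; exact one_ne_zero)
  have hc : ∀ x : perp Q e e' ≃ₗ[F] perp Q e e', CopP (k + 2) ((X - C 1) * B.charpoly) x := by
    intro x X hX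
    rw [hBf] at hX
    exact cop_of_eps (one_mul 1) hX (hfr.eval_ne (by omega) 1) hfr.cop (hu _ _) (hu _ _) (hu _ _)
  have he : ∀ v, MQ (k + 2) (res Q e e') (hf.toModel v) = Q v := hf.MQ_toModel
  have hOm : lev X₀ (1 : perp Q e e' ≃ₗ[F] perp Q e e') ∈ Om (MQ (k + 2) (res Q e e')) :=
    lev_det_one_mem (good_model hQ (by omega) hf) (by rw [hX₀, hdb])
  have h2 := twoOf hQ (by omega) hW hf (one_mul 1) (one_mul 1) hB hB (by rw [hBf]; exact hfr.eval_ne (by omega) 1)
    (by rw [hBf]; exact hfr.eval_ne (by omega) 1) (by rw [hBdet]; ring) (O _).one_mem (hc _) (hc _) hX₀ hX₀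
  rw [inv_one] at h2
  have hXs : X₀ ^ s = 1 := by
    apply Units.ext
    rw [Units.val_pow_eq_pow_val, hX₀, Units.val_one]
    apply pow_eq_one_of_charpoly
    rw [blk_charpoly, hBf]
    exact mul_dvd_of hfr (by omega) hdvd
  refine ⟨s, hs, coprime_six hs hs5, _, ?_, ?_, ?_, h2⟩
  · rw [← autE_mem_Om he, MulEquiv.apply_symm_apply]; exact hOm
  · rw [← map_pow, lev_pow, hXs, lev_one, map_one]
  · intro c
    by_contra hcon
    push Not at hcon
    have he0 : e 0 ≠ 0 := by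
      intro h0
      have h3 := hf.lr 0 0
      rw [h0, polar_zero_left, if_pos rfl] at h3
      exact zero_ne_one h3
    have hc1 : c = 1 := by
      have h3 := hcon (e 0)
      rw [scale_l hf hX₀ 1, one_smul] at h3
      by_contra hne
      apply he0
      have h4 : (c - 1) • e 0 = 0 := by rw [sub_smul, one_smul, ← h3, sub_self]
      exact (smul_eq_zero.1 h4).resolve_left (sub_ne_zero.2 hne)
    subst hc1
    have h4 : (autE hf.toModel).symm (lev X₀ (1 : perp Q e e' ≃ₗ[F] perp Q e e')) = 1 :=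
      LinearEquiv.ext fun v => by rw [hcon v, one_smul]; rfl
    have h5 : lev X₀ (1 : perp Q e e' ≃ₗ[F] perp Q e e') = 1 := by
      rw [← (autE hf.toModel).apply_symm_apply (lev X₀ 1), h4, map_one]
    have h6 : blk (1 : F) B = 1 := by
      apply Matrix.toLin'.injective
      apply LinearMap.ext
      intro a
      have h7 := LinearEquiv.congr_fun h5 (a, 0, 0)
      rw [lev_apply] at h7
      have h8 := congrArg Prod.fst h7
      rw [hX₀] at h8
      rw [Matrix.toLin'_one, LinearMap.id_apply, Matrix.toLin'_apply]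
      exact h8
    have h7 := congrArg Matrix.charpoly h6
    rw [blk_charpoly, hBf, Matrix.charpoly_one, Fintype.card_fin] at h7
    -- `f` has no root `1`
    have h9 : f ∣ (X - 1 : F[X]) ^ (k + 2) := by
      rw [← h7]
      exact dvd_mul_left _ _
    obtain ⟨a, ha⟩ := (dvd_prime_pow (by
      have := (irreducible_X_sub_C (1 : F)).prime
      rwa [C_1] at this) _).1 h9
    obtain ⟨-, h10⟩ := ha
    have h11 : f.eval 1 = 0 := by
      obtain ⟨u, hu⟩ := h10
      rcases Nat.eq_zero_or_pos a with rfl | ha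
      · exfalso
        rw [pow_zero] at hu
        exact hfr.irr.not_isUnit (IsUnit.of_mul_eq_one _ hu)
      · have h12 := congrArg (eval 1) hu
        rw [eval_mul, eval_pow, eval_sub, eval_X, eval_one, sub_self, zero_pow (by omega)] at h12
        rcases mul_eq_zero.1 h12 with h | h
        · exact h
        · exfalso
          have h13 : IsUnit ((u : F[X]).eval 1) := by
            have := u.isUnit.map (evalRingHom (1 : F))
            simpa using this
          exact h13.ne_zero h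
    exact hfr.eval_ne (by omega) 1 h11

end Fin

/-- **`POmega⁺_2m(q)`, `m ≥ 4` even** -/
theorem pp_plus {F : Type*} [Field F] [Fintype F] {m : ℕ} (hm : 4 ≤ m) (hev : Even m) :
    H494.TC.PP (Cfsg.POmega F (Cfsg.quadFormPlus m F)) := by
  classical
  have hfr : Frame (plusForm m F) (fun i => (Pi.single (Sum.inl i) 1 : Fin m ⊕ Fin m → F))
      (fun i => Pi.single (Sum.inr i) 1) := by
    refine ⟨fun i => ?_, fun i => ?_, fun i j => ?_, fun i j => ?_, fun i j => ?_⟩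
    · rw [coe_plusForm, quadFormPlus_apply]
      simp [Pi.single_apply]
    · rw [coe_plusForm, quadFormPlus_apply]
      simp [Pi.single_apply]
    · rw [polar_plusForm]
      simp [Pi.single_apply]
    · rw [polar_plusForm]
      simp [Pi.single_apply]
    · rw [polar_plusForm]
      simp [Pi.single_apply, eq_comm]
  have h4 : SqP (plusForm m F) := sqP_plus (nondeg_plusForm m F) hm hev (by
    rw [Module.finrank_fintype_fun_eq_card]; simp; ring) (H295.War.witt_plus m) hfr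
  have h5 := pp_of_sqP (plusForm m F) h4
  rw [coe_plusForm] at h5
  exact h5

/-- S4173, S2464, S2452 -/
theorem row3_plus {F : Type*} [Field F] [Fintype F] {m : ℕ} (hm : 4 ≤ m) (hev : Even m) :
    H210.TC.Row3 (Cfsg.POmega F (Cfsg.quadFormPlus m F)) := by
  obtain ⟨x, hx, h6, h⟩ := pp_plus (F := F) hm hev
  exact H210.TC.Row3.of_sq hx h6 h

end Cfsg.Agent.H126.TC
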