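import Cfsg.Agent.H126.TC.SpSq

/-!
# S2464, S2452: `PSp_2n(q)`, `q` even, `n ≥ 3` (helper126)

`pp_psp_even` : one class of elements of prime order `≥ 5`.
-/

set_option autoImplicit false
set_option linter.unusedSectionVars false

namespace Cfsg.Agent.H126.TC.Sp

open Module Matrix Polynomial Cfsg.Agent.H962.PP Cfsg.Agent.H126.PwO Cfsg.Agent.H140.OreO Cfsg.Agent.H140.TC
  Cfsg.Agent.H140.TC.Sp Cfsg.Agent.H126.TC

variable {F : Type*} [Field F] {n m : ℕ}

/-! ### bases adapted to a vector and a covector -/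

theorem exists_adapted {a b : Fin (m + 1) → F} (h : b ⬝ᵥ a = 1) : ∃ P : GL (Fin (m + 1)) F,
    ((P⁻¹ : GL (Fin (m + 1)) F) : Matrix (Fin (m + 1)) (Fin (m + 1)) F) *ᵥ Pi.single 0 1 = a ∧
      (Pi.single 0 1 : Fin (m + 1) → F) ᵥ* (P : Matrix (Fin (m + 1)) (Fin (m + 1)) F) = b := by
  classical
  let φ : (Fin (m + 1) → F) →ₗ[F] F :=
    { toFun := fun v => b ⬝ᵥ v
      map_add' := fun x y => dotProduct_add b x y
      map_smul' := fun c x => dotProduct_smul c b x }
  have hφ : ∀ v, φ v = b ⬝ᵥ v := fun v => rfl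
  have hr : LinearMap.range φ = ⊤ := by
    rw [LinearMap.range_eq_top]
    intro c
    exact ⟨c • a, by rw [map_smul, hφ, h, smul_eq_mul, mul_one]⟩
  have hk : finrank F (LinearMap.ker φ) = m := by
    have h1 := φ.finrank_range_add_finrank_ker
    rw [hr, finrank_top, finrank_self, Module.finrank_fintype_fun_eq_card, Fintype.card_fin] at h1
    omega
  let w : Basis (Fin m) F (LinearMap.ker φ) := finBasisOfFinrankEq F _ hk
  obtain ⟨N, hN⟩ : ∃ N : Matrix (Fin (m + 1)) (Fin (m + 1)) F,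
      N = Matrix.of fun i j => (Fin.cons a (fun i => ((w i : LinearMap.ker φ) : Fin (m + 1) → F)) :
        Fin (m + 1) → (Fin (m + 1) → F)) j i := ⟨_, rfl⟩
  have hcol : ∀ j, N.col j = (Fin.cons a (fun i => ((w i : LinearMap.ker φ) : Fin (m + 1) → F)) :
        Fin (m + 1) → (Fin (m + 1) → F)) j := by
    intro j
    rw [hN]
    rfl
  have hLI : LinearIndependent F (Fin.cons a (fun i => ((w i : LinearMap.ker φ) : Fin (m + 1) → F)) :
        Fin (m + 1) → (Fin (m + 1) → F)) := by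
    rw [linearIndependent_finCons]
    refine ⟨?_, ?_⟩
    · exact w.linearIndependent.map' (LinearMap.ker φ).subtype (Submodule.ker_subtype _)
    · intro ha
      have h1 : Submodule.span F (Set.range fun i => ((w i : LinearMap.ker φ) : Fin (m + 1) → F)) ≤
          LinearMap.ker φ := by
        rw [Submodule.span_le]
        rintro _ ⟨i, rfl⟩
        exact (w i).2
      have h2 := h1 ha
      rw [LinearMap.mem_ker, hφ, h] at h2
      exact one_ne_zero h2
  have hU : IsUnit N := by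
    rw [← Matrix.linearIndependent_cols_iff_isUnit]
    have : N.col = (Fin.cons a (fun i => ((w i : LinearMap.ker φ) : Fin (m + 1) → F)) :
        Fin (m + 1) → (Fin (m + 1) → F)) := funext hcol
    rw [this]
    exact hLI
  obtain ⟨N', hN'⟩ := hU
  have hb : b ᵥ* N = Pi.single 0 1 := by
    ext j
    have h1 : (b ᵥ* N) j = b ⬝ᵥ N.col j := rfl
    rw [h1, hcol]
    refine Fin.cases ?_ (fun j => ?_) j
    · rw [Fin.cons_zero, h, Pi.single_eq_same]
    · rw [Fin.cons_succ, Pi.single_eq_of_ne (Fin.succ_ne_zero j)]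
      have h2 := (w j).2
      rwa [LinearMap.mem_ker, hφ] at h2
  refine ⟨N'⁻¹, ?_, ?_⟩
  · rw [inv_inv, hN', Matrix.mulVec_single_one, hcol, Fin.cons_zero]
  · rw [← hb, Matrix.vecMul_vecMul, ← hN', ← Units.val_mul, mul_inv_cancel, Units.val_one, Matrix.vecMul_one]

/-- `lo * up` with an isotropic vector and an isotropic covector -/
theorem sq_of_ab [Finite F] (hm : 2 ≤ m) {B : GL (Fin m) F} (h : RP m (B : Matrix (Fin m) (Fin m) F).charpoly)
    {T S : Matrix (Fin (m + 1)) (Fin (m + 1)) F} (hT : Tᵀ = T) (hS : Sᵀ = S) {a b : Fin (m + 1) → F}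
    (hab : b ⬝ᵥ a = 1) (ha : a ⬝ᵥ (T *ᵥ a) = 0) (hb : b ⬝ᵥ (S *ᵥ b) = 0) :
    ∃ u v : G (m + 1) F, lo T hT * up S hS = (u * em (1, B) * u⁻¹) * (v * em (1, B) * v⁻¹) := by
  obtain ⟨P, hPa, hPb⟩ := exists_adapted hab
  have e1 := lv_lo P⁻¹ hT
  rw [map_inv, inv_inv] at e1
  have e2 := lv_up P hS
  have hz : ∀ (M : Matrix (Fin (m + 1)) (Fin (m + 1)) F), M 0 0 = (Pi.single 0 1 : Fin (m + 1) → F) ⬝ᵥ
      (M *ᵥ (Pi.single 0 1 : Fin (m + 1) → F)) := by
    intro M
    rw [Matrix.mulVec_single_one, single_dotProduct, one_mul]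
    rfl
  obtain ⟨u, v, e⟩ := sq_em hm h
    (T := ((P⁻¹ : GL (Fin (m + 1)) F) : Matrix _ _ F)ᵀ * T * ((P⁻¹ : GL (Fin (m + 1)) F) : Matrix _ _ F))
    (S := (P : Matrix _ _ F) * S * (P : Matrix _ _ F)ᵀ)
    (by simp only [transpose_mul, transpose_transpose, hT, Matrix.mul_assoc])
    (by simp only [transpose_mul, transpose_transpose, hS, Matrix.mul_assoc])
    (by
      refine (hz _).trans ?_
      rw [← Matrix.mulVec_mulVec, ← Matrix.mulVec_mulVec, hPa, Matrix.mulVec_transpose, dotProduct_comm,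
        ← Matrix.dotProduct_mulVec, hPa, dotProduct_comm]
      exact ha)
    (by
      refine (hz _).trans ?_
      rw [← Matrix.mulVec_mulVec, ← Matrix.mulVec_mulVec, Matrix.dotProduct_mulVec, hPb, Matrix.mulVec_transpose,
        hPb]
      exact hb)
  refine ⟨(lv P)⁻¹ * u, (lv P)⁻¹ * v, ?_⟩
  have e3 : lo T hT * up S hS = (lv P)⁻¹ * ((lv P * lo T hT * (lv P)⁻¹) * (lv P * up S hS * (lv P)⁻¹)) * lv P := by
    group
  rw [e3, e1, e2]
  have e4 := e
  rw [e4]
  group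

/-! ### characteristic two -/

theorem quad_two (h2 : (2 : F) = 0) {S : Matrix (Fin n) (Fin n) F} (hS : Sᵀ = S) (b : Fin n → F) :
    b ⬝ᵥ (S *ᵥ b) = ∑ k, b k ^ 2 * S k k := by
  classical
  have hsym : ∀ x y : Fin n → F, x ⬝ᵥ (S *ᵥ y) = y ⬝ᵥ (S *ᵥ x) := by
    intro x y
    rw [Matrix.dotProduct_mulVec, dotProduct_comm, ← Matrix.mulVec_transpose, hS]
  let φ : (Fin n → F) →+ F :=
    { toFun := fun x => x ⬝ᵥ (S *ᵥ x)
      map_zero' := by simp
      map_add' := fun x y => by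
        rw [Matrix.mulVec_add, dotProduct_add, add_dotProduct, add_dotProduct, hsym y x]
        linear_combination (x ⬝ᵥ (S *ᵥ y)) * h2 }
  have h1 : φ b = b ⬝ᵥ (S *ᵥ b) := rfl
  rw [← h1]
  conv_lhs => rw [← Finset.univ_sum_single b]
  rw [map_sum]
  refine Finset.sum_congr rfl fun k _ => ?_
  show (Pi.single k (b k) : Fin n → F) ⬝ᵥ (S *ᵥ (Pi.single k (b k) : Fin n → F)) = _
  rw [single_dotProduct, Matrix.mulVec_single]
  simp only [Pi.smul_apply, Matrix.col_apply, MulOpposite.smul_eq_mul_unop, MulOpposite.unop_op]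
  ring

theorem exists_sqrt [Finite F] (h2 : (2 : F) = 0) {S : Matrix (Fin n) (Fin n) F} (hS : Sᵀ = S) :
    ∃ s : Fin n → F, ∀ b : Fin n → F, s ⬝ᵥ b = 0 → b ⬝ᵥ (S *ᵥ b) = 0 := by
  have : Fintype F := Fintype.ofFinite F
  have hc : CharP F 2 := CharTwo.of_one_ne_zero_of_two_eq_zero one_ne_zero h2
  have hsq : ∀ k, ∃ x : F, S k k = x ^ 2 := fun k => by
    obtain ⟨x, hx⟩ := FiniteField.isSquare_of_char_two (ringChar.eq F 2) (S k k)
    exact ⟨x, by rw [hx, sq]⟩
  choose s hs using hsq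
  refine ⟨s, fun b hb => ?_⟩
  rw [quad_two h2 hS]
  have h1 : ∑ k, b k ^ 2 * S k k = (∑ k, s k * b k) ^ 2 := by
    rw [CharTwo.sum_sq]
    exact Finset.sum_congr rfl fun k _ => by rw [hs]; ring
  have h3 : ∑ k, s k * b k = 0 := hb
  rw [h1, h3]
  ring

theorem exists_cov {a s : Fin n → F} (h : ∀ c : F, a ≠ c • s) : ∃ b : Fin n → F, s ⬝ᵥ b = 0 ∧ b ⬝ᵥ a = 1 := by
  classical
  by_cases hs : s = 0
  · obtain ⟨i, hi⟩ : ∃ i, a i ≠ 0 := by
      by_contra hcon
      push Not at hcon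
      exact h 0 (by rw [zero_smul]; exact funext hcon)
    refine ⟨Pi.single i (a i)⁻¹, by rw [hs, zero_dotProduct], ?_⟩
    rw [single_dotProduct, inv_mul_cancel₀ hi]
  · obtain ⟨k, hk⟩ : ∃ k, s k ≠ 0 := by
      by_contra hcon
      push Not at hcon
      exact hs (funext hcon)
    obtain ⟨i, hi⟩ : ∃ i, a i ≠ (a k / s k) * s i := by
      by_contra hcon
      push Not at hcon
      exact h (a k / s k) (funext hcon)
    have hd : a i * s k - s i * a k ≠ 0 := by
      intro h0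
      apply hi
      field_simp
      linear_combination h0
    refine ⟨(a i * s k - s i * a k)⁻¹ • (Pi.single i (s k) - Pi.single k (s i)), ?_, ?_⟩
    · have h1 : s i * s k - s k * s i = 0 := by ring
      rw [dotProduct_smul, dotProduct_sub, dotProduct_single, dotProduct_single, h1, smul_zero]
    · rw [smul_dotProduct, sub_dotProduct, single_dotProduct, single_dotProduct, smul_eq_mul]
      rw [mul_comm (s k)]
      exact inv_mul_cancel₀ hd

theorem exists_iso (hn : 3 ≤ n) (t s : Fin n → F) : ∃ a : Fin n → F, t ⬝ᵥ a = 0 ∧ ∀ c : F, a ≠ c • s := by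
  classical
  by_contra hcon
  push Not at hcon
  by_cases ht : t = 0
  · obtain ⟨c, hc⟩ := hcon (Pi.single ⟨0, by omega⟩ 1) (by rw [ht, zero_dotProduct])
    obtain ⟨d, hd⟩ := hcon (Pi.single ⟨1, by omega⟩ 1) (by rw [ht, zero_dotProduct])
    have h1 := congrFun hc ⟨0, by omega⟩
    have h2 := congrFun hc ⟨1, by omega⟩
    have h3 := congrFun hd ⟨1, by omega⟩
    rw [Pi.single_eq_same, Pi.smul_apply, smul_eq_mul] at h1 h3
    rw [Pi.single_eq_of_ne (by simp [Fin.ext_iff]), Pi.smul_apply, smul_eq_mul] at h2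
    have hc0 : c ≠ 0 := by
      rintro rfl
      rw [zero_mul] at h1
      exact one_ne_zero h1
    have h4 : s ⟨1, by omega⟩ = 0 := (mul_eq_zero.1 h2.symm).resolve_left hc0
    rw [h4, mul_zero] at h3
    exact one_ne_zero h3
  · obtain ⟨k, hk⟩ : ∃ k, t k ≠ 0 := by
      by_contra hcon
      push Not at hcon
      exact ht (funext hcon)
    obtain ⟨i, j, hik, hjk, hij⟩ : ∃ i j : Fin n, i ≠ k ∧ j ≠ k ∧ i ≠ j := by
      have h3 : 1 < (Finset.univ.erase k).card := by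
        rw [Finset.card_erase_of_mem (Finset.mem_univ _), Finset.card_univ, Fintype.card_fin]
        omega
      obtain ⟨i, hi, j, hj, hij⟩ := Finset.one_lt_card.1 h3
      exact ⟨i, j, Finset.ne_of_mem_erase hi, Finset.ne_of_mem_erase hj, hij⟩
    have hz : ∀ l, t ⬝ᵥ (Pi.single l (t k) - Pi.single k (t l)) = 0 := by
      intro l
      rw [dotProduct_sub, dotProduct_single, dotProduct_single, mul_comm (t l), sub_self]
    obtain ⟨c, hc⟩ := hcon _ (hz i)
    obtain ⟨d, hd⟩ := hcon _ (hz j)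
    have h1 := congrFun hc i
    have h2 := congrFun hc j
    have h3 := congrFun hd j
    rw [Pi.sub_apply, Pi.single_eq_same, Pi.single_eq_of_ne hik, sub_zero, Pi.smul_apply, smul_eq_mul] at h1
    rw [Pi.sub_apply, Pi.single_eq_of_ne hij.symm, Pi.single_eq_of_ne hjk, sub_zero, Pi.smul_apply, smul_eq_mul] at h2
    rw [Pi.sub_apply, Pi.single_eq_same, Pi.single_eq_of_ne hjk, sub_zero, Pi.smul_apply, smul_eq_mul] at h3
    have hc0 : c ≠ 0 := by
      rintro rfl
      rw [zero_mul] at h1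
      exact hk h1
    have h4 : s j = 0 := (mul_eq_zero.1 h2.symm).resolve_left hc0
    rw [h4, mul_zero] at h3
    exact hk h3

/-- **characteristic two, `n = m + 1`** -/
theorem sq_char_two [Finite F] (h2 : (2 : F) = 0) (hm : 2 ≤ m) {B : GL (Fin m) F}
    (h : RP m (B : Matrix (Fin m) (Fin m) F).charpoly)
    {T S : Matrix (Fin (m + 1)) (Fin (m + 1)) F} (hT : Tᵀ = T) (hS : Sᵀ = S) :
    ∃ u v : G (m + 1) F, lo T hT * up S hS = (u * em (1, B) * u⁻¹) * (v * em (1, B) * v⁻¹) := by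
  obtain ⟨t, ht⟩ := exists_sqrt h2 hT
  obtain ⟨s, hs⟩ := exists_sqrt h2 hS
  obtain ⟨a, ha, has⟩ := exists_iso (show 3 ≤ m + 1 by omega) t s
  obtain ⟨b, hb, hab⟩ := exists_cov has
  exact sq_of_ab hm h hT hS hab (ht a ha) (hs b hb)

/-! ### the group `PSp` -/

theorem pp_of_sp {s : ℕ} (hs : s.Prime) (h5 : 5 ≤ s) {x : G n F} (hx : x ^ s = 1) (hxc : x ∉ Subgroup.center (G n F))
    (h : ∀ g : G n F, g ∉ Subgroup.center (G n F) → ∃ u v : G n F, g = (u * x * u⁻¹) * (v * x * v⁻¹)) :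
    H494.TC.PP (Cfsg.PSp n F) := by
  have hne : (QuotientGroup.mk x : Cfsg.PSp n F) ≠ 1 := fun h1 => hxc ((QuotientGroup.eq_one_iff x).1 h1)
  have hpow : (QuotientGroup.mk x : Cfsg.PSp n F) ^ s = 1 := by
    rw [← QuotientGroup.mk_pow, hx]
    rfl
  have hord : orderOf (QuotientGroup.mk x : Cfsg.PSp n F) = s := orderOf_eq_prime (hp := ⟨hs⟩) hpow hne
  refine ⟨QuotientGroup.mk x, by rw [hord]; exact hs, by rw [hord]; exact PwO.coprime_six hs h5, fun g hg => ?_⟩
  obtain ⟨g, rfl⟩ := QuotientGroup.mk_surjective g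
  obtain ⟨u, v, e⟩ := h g (fun hc => hg ((QuotientGroup.eq_one_iff g).2 hc))
  refine ⟨QuotientGroup.mk u, QuotientGroup.mk v, ?_⟩
  conv_lhs => rw [e]
  rfl

theorem not_central_em [Finite F] (hm : 2 ≤ m) {B : GL (Fin m) F}
    (h : RP m (B : Matrix (Fin m) (Fin m) F).charpoly) : em (1, B) ∉ Subgroup.center (G (m + 1) F) := by
  classical
  intro hc
  have i : Fin m := ⟨0, by omega⟩
  have hT : (Matrix.single i.succ i.succ (1 : F))ᵀ = Matrix.single i.succ i.succ 1 := by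
    rw [Matrix.transpose_single]
  obtain ⟨u, hu⟩ := isConj_iff.1 (em_lo hm h hT (by
    rw [Matrix.single_apply_of_ne]
    rintro ⟨h1, -⟩
    exact Fin.succ_ne_zero i h1))
  have h1 : u * em (1, B) * u⁻¹ = em (1, B) := by
    rw [Subgroup.mem_center_iff.1 hc u, mul_inv_cancel_right]
  rw [h1] at hu
  have h3 : lo (Matrix.single i.succ i.succ (1 : F)) hT = lo 0 transpose_zero := by
    rw [lo_zero]
    exact (mul_eq_right.1 hu.symm)
  have h4 := congrFun (congrFun (lo_inj h3) i.succ) i.succ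
  rw [Matrix.single_apply_same, Matrix.zero_apply] at h4
  exact one_ne_zero h4

theorem not_central_lv [Finite F] (hn : 2 ≤ n) {X : GL (Fin n) F}
    (h : RP n (X : Matrix (Fin n) (Fin n) F).charpoly) : lv X ∉ Subgroup.center (G n F) := by
  classical
  intro hc
  have i : Fin n := ⟨0, by omega⟩
  have hT : (Matrix.single i i (1 : F))ᵀ = Matrix.single i i 1 := by
    rw [Matrix.transpose_single]
  obtain ⟨u, hu⟩ := conj_lo_lv h.cop (lo_mem hT) (one_mem _)
  have h1 : u * lv X * u⁻¹ = lv X := by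
    rw [Subgroup.mem_center_iff.1 hc u, mul_inv_cancel_right]
  rw [h1, mul_one] at hu
  have h3 : lo (Matrix.single i i (1 : F)) hT = lo 0 transpose_zero := by
    rw [lo_zero]
    exact (mul_eq_right.1 hu)
  have h4 := congrFun (congrFun (lo_inj h3) i) i
  rw [Matrix.single_apply_same, Matrix.zero_apply] at h4
  exact one_ne_zero h4

/-- a matrix of prime order -/
theorem exists_prime_mat (F : Type*) [Field F] [Finite F] {d : ℕ} (hd : 3 ≤ d) (hodd : Odd d) :
    ∃ (B : GL (Fin d) F) (s : ℕ), s.Prime ∧ 5 ≤ s ∧ RP d (B : Matrix (Fin d) (Fin d) F).charpoly ∧ B ^ s = 1 := by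
  obtain ⟨f, s, hs, h5, hf, -, hdvd⟩ := exists_one' F hd hodd
  obtain ⟨B, hBf, hB, hBdet⟩ := exists_mat (by omega) hf
  obtain ⟨B', hB'⟩ := exists_gl (M := B) (det_ne_zero_iff.2 (by rw [hBf]; exact hf.coeff_ne (by omega)))
  refine ⟨B', s, hs, h5, by rw [hB', hBf]; exact hf, Units.ext ?_⟩
  rw [Units.val_pow_eq_pow_val, hB', Units.val_one]
  apply pow_eq_one_of_charpoly
  rw [hBf]
  exact hdvd

/-- **`PSp_2n(q)`, `q` even, `n ≥ 3`** -/
theorem pp_psp_even {n : ℕ} (hn : 3 ≤ n) (F : Type*) [Field F] [Finite F] (h2 : (2 : F) = 0) :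
    H494.TC.PP (Cfsg.PSp n F) := by
  rcases Nat.even_or_odd n with hev | hodd
  · obtain ⟨m, rfl⟩ : ∃ m, n = m + 1 := ⟨n - 1, by omega⟩
    obtain ⟨B, s, hs, h5, hB, hBs⟩ := exists_prime_mat F (d := m) (by
      obtain ⟨a, ha⟩ := hev
      omega) (by
      obtain ⟨a, ha⟩ := hev
      exact ⟨a - 1, by omega⟩)
    refine pp_of_sp hs h5 (x := em (1, B)) ?_ (not_central_em (by omega) hB) fun g _ => ?_
    · rw [← map_pow, Prod.pow_mk, one_pow, hBs]
      exact map_one _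
    · obtain ⟨t, T, S, hT, hS, e⟩ := exists_lo_up h2 g
      obtain ⟨u, v, e'⟩ := sq_char_two h2 (by omega) hB hT hS
      refine ⟨t⁻¹ * u, t⁻¹ * v, ?_⟩
      have e2 : g = t⁻¹ * (t * g * t⁻¹) * t := by group
      rw [e2, e, e']
      group
  · obtain ⟨X, s, hs, h5, hX, hXs⟩ := exists_prime_mat F (d := n) hn hodd
    refine pp_of_sp hs h5 (x := lv X) ?_ (not_central_lv (by omega) hX) fun g _ => ?_
    · rw [← map_pow, hXs, map_one]
    · obtain ⟨t, T, S, hT, hS, e⟩ := exists_lo_up h2 g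
      obtain ⟨u, v, e'⟩ := sq_lv (by omega) hX hT hS
      refine ⟨t⁻¹ * u, t⁻¹ * v, ?_⟩
      have e2 : g = t⁻¹ * (t * g * t⁻¹) * t := by group
      rw [e2, e, e']
      group

/-- S4173, S2464, S2452 -/
theorem row3_psp_even {n : ℕ} (hn : 3 ≤ n) (F : Type*) [Field F] [Finite F] (h2 : (2 : F) = 0) :
    H210.TC.Row3 (Cfsg.PSp n F) := by
  obtain ⟨x, hx, h6, h⟩ := pp_psp_even hn F h2
  exact H210.TC.Row3.of_sq hx h6 h

end Cfsg.Agent.H126.TC.Sp
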