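import Cfsg.Agent.H140.TC.SpRow
import Cfsg.Agent.H126.TC.Plus
import Cfsg.Agent.H126.TC.OEight
import Cfsg.Agent.H494.TC.Base

/-!
# S2464, S2452: symplectic groups, products `lo * up` (helper126)

One class `x` of elements of prime order `≥ 5`: every product `lo T * up S` (with `T₀₀ = S₀₀ = 0` if `n` is even)
is a product of two conjugates of `x`.  In characteristic two this gives all `PSp_2n(q)`, `n ≥ 3`.
-/

set_option autoImplicit false
set_option linter.unusedSectionVars false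

namespace Cfsg.Agent.H126.TC.Sp

open Module Matrix Polynomial Cfsg.Agent.H962.PP Cfsg.Agent.H126.PwO Cfsg.Agent.H140.OreO Cfsg.Agent.H140.TC
  Cfsg.Agent.H140.TC.Sp Cfsg.Agent.H126.TC

variable {F : Type*} [Field F] {n m : ℕ}

/-! ### the Weyl element -/

/-- the Weyl element -/
def wJ (n : ℕ) (F : Type*) [Field F] : G n F := ⟨J (Fin n) F, SymplecticGroup.J_mem (Fin n) F⟩

theorem wJ_coe : ((wJ n F : G n F) : Matrix (Fin n ⊕ Fin n) (Fin n ⊕ Fin n) F) = fromBlocks 0 (-1) 1 0 := rfl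

theorem wJ_inv_coe : (((wJ n F)⁻¹ : G n F) : Matrix (Fin n ⊕ Fin n) (Fin n ⊕ Fin n) F) = fromBlocks 0 1 (-1) 0 := by
  have h1 : ((wJ n F * (wJ n F)⁻¹ : G n F) : Matrix (Fin n ⊕ Fin n) (Fin n ⊕ Fin n) F) = 1 := by
    rw [mul_inv_cancel]; rfl
  have h2 : (fromBlocks 0 1 (-1) 0 : Matrix (Fin n ⊕ Fin n) (Fin n ⊕ Fin n) F) * fromBlocks 0 (-1) 1 0 = 1 := by
    rw [fromBlocks_multiply]
    simp
  calc (((wJ n F)⁻¹ : G n F) : Matrix (Fin n ⊕ Fin n) (Fin n ⊕ Fin n) F) =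
      fromBlocks 0 1 (-1) 0 * ((wJ n F * (wJ n F)⁻¹ : G n F) : Matrix (Fin n ⊕ Fin n) (Fin n ⊕ Fin n) F) := by
        rw [Submonoid.coe_mul, wJ_coe, ← Matrix.mul_assoc, h2, Matrix.one_mul]
    _ = _ := by rw [h1, Matrix.mul_one]

theorem wJ_blocks {g : G n F} {A B C D : Matrix (Fin n) (Fin n) F} (h : (g : Matrix _ _ F) = fromBlocks A B C D) :
    ((wJ n F * g * (wJ n F)⁻¹ : G n F) : Matrix _ _ F) = fromBlocks D (-C) (-B) A := by
  rw [Submonoid.coe_mul, Submonoid.coe_mul, wJ_inv_coe, wJ_coe, h, fromBlocks_multiply, fromBlocks_multiply]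
  simp

theorem wJ_lo {T : Matrix (Fin n) (Fin n) F} (hT : Tᵀ = T) :
    wJ n F * lo T hT * (wJ n F)⁻¹ = up (-T) (by rw [transpose_neg, hT]) := by
  apply Subtype.ext
  rw [wJ_blocks (lo_coe T hT), up_coe, neg_zero]

theorem ti_ti' (X : GL (Fin n) F) : ti (ti X) = X := H126.TC.ti_ti X

theorem wJ_lv (X : GL (Fin n) F) : wJ n F * lv X * (wJ n F)⁻¹ = lv (ti X) := by
  apply Subtype.ext
  rw [wJ_blocks (lv_coe X), lv_coe, neg_zero]
  have h1 : (((ti X)⁻¹ : GL (Fin n) F) : Matrix (Fin n) (Fin n) F)ᵀ = (X : Matrix (Fin n) (Fin n) F) := by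
    rw [← ti_inv, ti_coe, inv_inv, transpose_transpose]
  rw [h1, ti_coe]

theorem wJ_em (B : GL (Fin m) F) : wJ (m + 1) F * em (1, B) * (wJ (m + 1) F)⁻¹ = em (1, ti B) := by
  apply Subtype.ext
  rw [wJ_blocks (em_coe 1 B), em_coe]
  have h0 : (blk (0 : F) (0 : Matrix (Fin m) (Fin m) F)) = 0 := blk_zero
  simp [h0, ti_ti']

/-! ### the dual of an irreducible matrix -/

theorem rev_facts {f : F[X]} {d : ℕ} (hd : f.natDegree = d) (h : Irreducible f) (h0 : f.coeff 0 ≠ 0) :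
    Irreducible (C (f.coeff 0)⁻¹ * f.reverse) ∧ (C (f.coeff 0)⁻¹ * f.reverse).Monic ∧
      (C (f.coeff 0)⁻¹ * f.reverse).natDegree = d := by
  have hu : IsUnit (C (f.coeff 0)⁻¹ : F[X]) := isUnit_C.2 (inv_ne_zero h0).isUnit
  have hlc : f.reverse.leadingCoeff = f.coeff 0 := by
    rw [reverse_leadingCoeff, trailingCoeff, natTrailingDegree_eq_zero_of_constantCoeff_ne_zero h0]
  exact ⟨(irreducible_isUnit_mul hu).2 (irreducible_rev h h0), by
    rw [Monic, leadingCoeff_mul, leadingCoeff_C, hlc, inv_mul_cancel₀ h0], by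
    rw [natDegree_C_mul (inv_ne_zero h0), natDegree_rev h0, hd]⟩

theorem charpoly_ti (hm : 2 ≤ m) {B : GL (Fin m) F} (h : Irreducible (B : Matrix (Fin m) (Fin m) F).charpoly) :
    (ti B : Matrix (Fin m) (Fin m) F).charpoly =
      C ((B : Matrix (Fin m) (Fin m) F).charpoly.coeff 0)⁻¹ * (B : Matrix (Fin m) (Fin m) F).charpoly.reverse := by
  have hd : (B : Matrix (Fin m) (Fin m) F).charpoly.natDegree = m := by
    rw [charpoly_natDegree_eq_dim, Fintype.card_fin]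
  obtain ⟨hirr, hmon, hdeg⟩ := rev_facts hd h (coeff_zero_ne h (by omega))
  have h1 : minpoly F (ti B : Matrix (Fin m) (Fin m) F) = C ((B : Matrix (Fin m) (Fin m) F).charpoly.coeff 0)⁻¹ *
      (B : Matrix (Fin m) (Fin m) F).charpoly.reverse := by
    have hne : NeZero m := ⟨by omega⟩
    exact (minpoly.eq_of_irreducible_of_monic hirr (by rw [map_mul, aeval_ti_reverse, mul_zero]) hmon).symm
  have h2 := Matrix.minpoly_dvd_charpoly (ti B : Matrix (Fin m) (Fin m) F)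
  rw [h1] at h2
  refine (eq_of_monic_of_dvd_of_natDegree_le hmon (charpoly_monic _) h2 ?_)
  rw [hdeg, charpoly_natDegree_eq_dim, Fintype.card_fin]

theorem rp_ti (hm : 2 ≤ m) {B : GL (Fin m) F} (h : RP m (B : Matrix (Fin m) (Fin m) F).charpoly) :
    RP m (ti B : Matrix (Fin m) (Fin m) F).charpoly := by
  have h0 := h.coeff_ne hm
  have hu : IsUnit (C ((B : Matrix (Fin m) (Fin m) F).charpoly.coeff 0)⁻¹ : F[X]) :=
    isUnit_C.2 (inv_ne_zero h0).isUnit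
  refine ⟨charpoly_monic _, ?_, by rw [charpoly_natDegree_eq_dim, Fintype.card_fin], ?_⟩
  · rw [charpoly_ti hm h.irr]
    exact (irreducible_isUnit_mul hu).2 (irreducible_rev h.irr h0)
  · rw [charpoly_ti hm h.irr, reverse_mul_of_domain, rev_rev h0, reverse_C]
    exact (isCoprime_mul_unit_left_left hu _ _).2 ((isCoprime_mul_unit_left_right hu _ _).2 h.cop.symm)

theorem conj_transpose (hm : 1 ≤ m) {B : GL (Fin m) F} (h : Irreducible (B : Matrix (Fin m) (Fin m) F).charpoly) :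
    ∃ P : GL (Fin m) F, ti B⁻¹ = P * B * P⁻¹ := by
  have hB : Cyc (B : Matrix (Fin m) (Fin m) F) := cyc_of_irr hm h
  have hc : (ti B⁻¹ : Matrix (Fin m) (Fin m) F) = (B : Matrix (Fin m) (Fin m) F)ᵀ := by
    rw [ti_coe, inv_inv]
  have hB' : Cyc (ti B⁻¹ : Matrix (Fin m) (Fin m) F) := cyc_of_irr hm (by rw [hc, charpoly_transpose]; exact h)
  obtain ⟨P, hP, hPe⟩ := conj_of_cyc hB hB' (by rw [hc, charpoly_transpose])
  obtain ⟨P', rfl⟩ : ∃ P' : GL (Fin m) F, (P' : Matrix _ _ F) = P :=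
    ⟨Matrix.GeneralLinearGroup.mkOfDetNeZero P hP.ne_zero, rfl⟩
  refine ⟨P', Units.ext ?_⟩
  rw [hPe, Units.val_mul, Units.val_mul, Matrix.coe_units_inv]

/-! ### inverses -/

theorem isConj_inv {G : Type*} [Group G] {a b : G} (h : IsConj a b) : IsConj a⁻¹ b⁻¹ := by
  obtain ⟨c, hc⟩ := isConj_iff.1 h
  exact isConj_iff.2 ⟨c, by rw [← hc]; group⟩

theorem isConj_comm {G : Type*} [Group G] (a b : G) : IsConj (a * b) (b * a) :=
  isConj_iff.2 ⟨b, by group⟩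

theorem em_inv_conj (hm : 1 ≤ m) {B : GL (Fin m) F} (h : Irreducible (B : Matrix (Fin m) (Fin m) F).charpoly) :
    IsConj (em (1, B) : G (m + 1) F) (em (1, B))⁻¹ := by
  obtain ⟨P, hP⟩ := conj_transpose hm h
  have h1 : IsConj (em (1, B) : G (m + 1) F) (em (1, ti B⁻¹)) := by
    refine isConj_iff.2 ⟨em (1, P), ?_⟩
    rw [← map_inv, ← map_mul, ← map_mul, hP]
    congr 1
    ext1
    · simp
    · rfl
  have h2 : IsConj ((em (1, B))⁻¹ : G (m + 1) F) (em (1, ti B⁻¹)) := by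
    refine isConj_iff.2 ⟨wJ (m + 1) F, ?_⟩
    rw [← wJ_em, ← map_inv, Prod.inv_mk, inv_one]
  exact h1.trans h2.symm

theorem lv_inv_conj (hn : 1 ≤ n) {X : GL (Fin n) F} (h : Irreducible (X : Matrix (Fin n) (Fin n) F).charpoly) :
    IsConj (lv X : G n F) (lv X)⁻¹ := by
  obtain ⟨P, hP⟩ := conj_transpose hn h
  have h1 : IsConj (lv X : G n F) (lv (ti X⁻¹)) :=
    isConj_iff.2 ⟨lv P, by rw [← map_inv, ← map_mul, ← map_mul, hP]⟩
  have h2 : IsConj ((lv X)⁻¹ : G n F) (lv (ti X⁻¹)) :=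
    isConj_iff.2 ⟨wJ n F, by rw [← wJ_lv, ← map_inv]⟩
  exact h1.trans h2.symm

section Fin

variable [Finite F]

theorem em_up (hm : 2 ≤ m) {B : GL (Fin m) F} (h : RP m (B : Matrix (Fin m) (Fin m) F).charpoly)
    {S : Matrix (Fin (m + 1)) (Fin (m + 1)) F} (hS : Sᵀ = S) (hS0 : S 0 0 = 0) :
    IsConj (em (1, B)) (em (1, B) * up S hS) := by
  obtain ⟨r, hr⟩ := conj_em_up (M := 1) h.cop (by
    have h1 : ((1 : SpecialLinearGroup (Fin 2) F) : Matrix (Fin 2) (Fin 2) F) = 1 := rfl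
    rw [h1, Matrix.charpoly_one]
    refine IsCoprime.pow_right (IsCoprime.symm ?_)
    rw [← C_1, (irreducible_X_sub_C (1 : F)).coprime_iff_not_dvd, dvd_iff_isRoot]
    exact h.eval_ne hm 1) hS hS0
  exact isConj_iff.2 ⟨r, hr.symm⟩

theorem em_lo (hm : 2 ≤ m) {B : GL (Fin m) F} (h : RP m (B : Matrix (Fin m) (Fin m) F).charpoly)
    {T : Matrix (Fin (m + 1)) (Fin (m + 1)) F} (hT : Tᵀ = T) (hT0 : T 0 0 = 0) :
    IsConj (em (1, B)) (lo T hT * em (1, B)) := by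
  have h1 := em_up hm (rp_ti hm h) (S := -T) (by rw [transpose_neg, hT]) (by rw [Matrix.neg_apply, hT0, neg_zero])
  have h2 : IsConj (em (1, B) : G (m + 1) F) (em (1, ti B)) := isConj_iff.2 ⟨wJ (m + 1) F, wJ_em B⟩
  have h3 : IsConj (em (1, B) * lo T hT) (em (1, ti B) * up (-T) (by rw [transpose_neg, hT])) := by
    refine isConj_iff.2 ⟨wJ (m + 1) F, ?_⟩
    rw [← wJ_em, ← wJ_lo hT]
    group
  exact (h2.trans (h1.trans h3.symm)).trans (isConj_comm _ _)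

/-- **`n = m + 1`** -/
theorem sq_em (hm : 2 ≤ m) {B : GL (Fin m) F} (h : RP m (B : Matrix (Fin m) (Fin m) F).charpoly)
    {T S : Matrix (Fin (m + 1)) (Fin (m + 1)) F} (hT : Tᵀ = T) (hS : Sᵀ = S) (hT0 : T 0 0 = 0) (hS0 : S 0 0 = 0) :
    ∃ u v : G (m + 1) F, lo T hT * up S hS = (u * em (1, B) * u⁻¹) * (v * em (1, B) * v⁻¹) := by
  obtain ⟨u, hu⟩ := isConj_iff.1 (em_lo hm h hT hT0)
  have hS' : (-S)ᵀ = -S := by rw [transpose_neg, hS]
  have hi : up S hS = (up (-S) hS')⁻¹ := by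
    rw [up_inv]
    exact up_congr _ (neg_neg S).symm
  have h1 : IsConj (em (1, B)) (up (-S) hS' * em (1, B)) :=
    (em_up hm h hS' (by rw [Matrix.neg_apply, hS0, neg_zero])).trans (isConj_comm _ _)
  have h2 := (em_inv_conj (by omega) h.irr).trans (isConj_inv h1)
  rw [_root_.mul_inv_rev, ← hi] at h2
  obtain ⟨v, hv⟩ := isConj_iff.1 h2
  refine ⟨u, v, ?_⟩
  rw [hu, hv]
  group

/-- **the Siegel Levi subgroup** -/
theorem sq_lv (hn : 2 ≤ n) {X : GL (Fin n) F} (h : RP n (X : Matrix (Fin n) (Fin n) F).charpoly)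
    {T S : Matrix (Fin n) (Fin n) F} (hT : Tᵀ = T) (hS : Sᵀ = S) :
    ∃ u v : G n F, lo T hT * up S hS = (u * lv X * u⁻¹) * (v * lv X * v⁻¹) := by
  obtain ⟨r, hr⟩ := conj_lo_lv h.cop (lo_mem hT) (one_mem _)
  obtain ⟨s, hs⟩ := conj_up_lv h.cop (inv_mem (up_mem hS)) (one_mem _)
  rw [mul_one] at hr hs
  obtain ⟨c, hc⟩ := isConj_iff.1 (lv_inv_conj (by omega) h.irr)
  refine ⟨r, s * c, ?_⟩
  have hs' : (lv X)⁻¹ * up S hS = s * (lv X)⁻¹ * s⁻¹ := by
    have := congrArg (fun x => x⁻¹) hs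
    simp only [_root_.mul_inv_rev, inv_inv] at this
    rw [this]
    group
  have h3 : (s * c) * lv X * (s * c)⁻¹ = (lv X)⁻¹ * up S hS := by
    rw [hs', ← hc]
    group
  rw [h3, ← hr]
  group

end Fin

end Cfsg.Agent.H126.TC.Sp
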